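import Cfsg.Agent.Chev.Ortho.SplitOmega
import Cfsg.Agent.SteinbergSL.Pres

/-!
Commutation rules of the root elements of the split orthogonal group and its linear subgroups.
-/

set_option autoImplicit false
set_option maxHeartbeats 1000000
set_option linter.unusedSimpArgs false

open Matrix
open scoped commutatorElement MatrixGroups

namespace Cfsg.Agent.CurtisTitsD

open Chev.Ortho

variable {F : Type*} [Field F] {m : ℕ}

local notation "I" => Fin m ⊕ Fin m

theorem ok_swap {a b : I} (h : Ok a b) : Ok b a :=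
  ⟨h.1.symm, fun e => h.2 (by rw [e, bar_bar])⟩

theorem ok_of_lev {a b : I} (h : lev a ≠ lev b) : Ok a b :=
  ⟨fun e => h (by rw [e]), fun e => h (by rw [e, lev_bar])⟩

theorem lev_ne_of_ok {a b : I} (h : Ok a b) : lev a ≠ lev b := fun e => by
  rcases lev_eq e.symm with e | e
  · exact h.1 e.symm
  · exact h.2 e

theorem el_swap {a b : I} (h : Ok a b) (h' : Ok b a) (t : F) : el h' t = el h (-t) := by
  refine ext_act fun x => funext fun i => ?_
  simp only [el_apply]
  by_cases h1 : i = a
  · subst h1; simp [h.1]; ring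
  by_cases h2 : i = b
  · subst h2; simp [h1] <;> ring
  simp [h1, h2]

theorem el_comm {a b c d : I} (h : Ok a b) (h' : Ok c d) (h1 : bar b ≠ c) (h2 : bar b ≠ d)
    (h3 : bar a ≠ c) (h4 : bar a ≠ d) (t u : F) : Commute (el h t) (el h' u) := by
  have g1 : bar d ≠ a := fun e => h4 (by rw [← e, bar_bar])
  have g2 : bar d ≠ b := fun e => h2 (by rw [← e, bar_bar])
  have g3 : bar c ≠ a := fun e => h3 (by rw [← e, bar_bar])
  have g4 : bar c ≠ b := fun e => h1 (by rw [← e, bar_bar])
  refine ext_act fun x => funext fun i => ?_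
  simp only [act_mul, el_apply, h1, h2, h3, h4, g1, g2, g3, g4, if_false, add_zero, sub_zero]
  ring

theorem el_rel {a c b : I} (hab : lev a ≠ lev b) (hac : lev a ≠ lev c) (hcb : lev c ≠ lev b)
    (h : Ok a b) (h1 : Ok a (bar c)) (h2 : Ok c b) (t u : F) :
    ⁅el h1 t, el h2 u⁆ = el h (t * u) := by
  have n1 : ∀ p q : I, lev p ≠ lev q → p ≠ q ∧ bar p ≠ q ∧ p ≠ bar q ∧ bar p ≠ bar q := fun p q hpq =>
    ⟨fun e => hpq (by rw [e]), fun e => hpq (by rw [← e, lev_bar]), fun e => hpq (by rw [e, lev_bar]),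
      fun e => hpq (by rw [bar_inj e])⟩
  obtain ⟨a1, a2, a3, a4⟩ := n1 a b hab
  obtain ⟨b1, b2, b3, b4⟩ := n1 a c hac
  obtain ⟨c1, c2, c3, c4⟩ := n1 c b hcb
  have e : el h1 t * el h2 u = el h (t * u) * (el h2 u * el h1 t) := by
    refine ext_act fun x => funext fun i => ?_
    simp only [act_mul, el_apply, bar_bar]
    by_cases i1 : i = a
    · subst i1
      simp [a1, a1.symm, a2, a2.symm, a3, a3.symm, a4, a4.symm, b1, b1.symm, b2, b2.symm, b3, b3.symm,
        b4, b4.symm, c1, c1.symm, c2, c2.symm, c3, c3.symm, c4, c4.symm, bar_ne, (bar_ne _).symm]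
      ring
    by_cases i2 : i = b
    · subst i2
      simp [a1, a1.symm, a2, a2.symm, a3, a3.symm, a4, a4.symm, b1, b1.symm, b2, b2.symm, b3, b3.symm,
        b4, b4.symm, c1, c1.symm, c2, c2.symm, c3, c3.symm, c4, c4.symm, bar_ne, (bar_ne _).symm]
      ring
    by_cases i3 : i = c
    · subst i3
      simp [a1, a1.symm, a2, a2.symm, a3, a3.symm, a4, a4.symm, b1, b1.symm, b2, b2.symm, b3, b3.symm,
        b4, b4.symm, c1, c1.symm, c2, c2.symm, c3, c3.symm, c4, c4.symm, bar_ne, (bar_ne _).symm]
    by_cases i4 : i = bar c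
    · subst i4
      simp [a1, a1.symm, a2, a2.symm, a3, a3.symm, a4, a4.symm, b1, b1.symm, b2, b2.symm, b3, b3.symm,
        b4, b4.symm, c1, c1.symm, c2, c2.symm, c3, c3.symm, c4, c4.symm, bar_ne, (bar_ne _).symm]
    simp [i1, i2, i3, i4]
  rw [commutatorElement_def, e]; group

/-- Root elements with a common index and opposite other indices commute. -/
theorem el_comm_opp {a b : I} (h : Ok a b) (h' : Ok a (bar b)) (t u : F) :
    Commute (el h t) (el h' u) := by
  have g1 : bar b ≠ a := fun e => h'.1 e.symm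
  have g2 : bar a ≠ bar b := fun e => h.1 (bar_inj e)
  refine ext_act fun x => funext fun i => ?_
  simp only [act_mul, el_apply, bar_bar]
  by_cases i1 : i = a
  · subst i1
    simp [h.1, h.1.symm, h.2, h.2.symm, g1, g1.symm, g2, g2.symm, bar_ne, (bar_ne _).symm]
    try ring
  by_cases i2 : i = b
  · subst i2
    simp [h.1, h.1.symm, h.2, h.2.symm, g1, g1.symm, g2, g2.symm, bar_ne, (bar_ne _).symm]
    try ring
  by_cases i3 : i = bar b
  · subst i3
    simp [h.1, h.1.symm, h.2, h.2.symm, g1, g1.symm, g2, g2.symm, bar_ne, (bar_ne _).symm]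
    try ring
  simp [i1, i2, i3]

theorem el_congr {a b a' b' : I} (h : Ok a b) (h' : Ok a' b') (ha : a = a') (hb : b = b') (t : F) :
    el h t = el h' t := by subst ha; subst hb; rfl

/-- The linear subgroup on coordinates of distinct levels. -/
theorem exists_lin [Finite F] {N : ℕ} (hN : 3 ≤ N) (p : Fin N → I)
    (hp : ∀ i j, i ≠ j → lev (p i) ≠ lev (p j)) :
    ∃ f : SpecialLinearGroup (Fin N) F →* OG F m, ∀ i j (h : i ≠ j) (t : F),
      f (SLMult.tx i j t) =
        el (ok_of_lev (show lev (p i) ≠ lev (bar (p j)) by rw [lev_bar]; exact hp i j h)) t := by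
  have hok : ∀ i j, i ≠ j → Ok (p i) (bar (p j)) := fun i j h =>
    ok_of_lev (by rw [lev_bar]; exact hp i j h)
  classical
  let x : Fin N → Fin N → F → OG F m := fun i j t => if h : i ≠ j then el (hok i j h) t else 1
  have hx : ∀ i j (h : i ≠ j) t, x i j t = el (hok i j h) t := fun i j h t => dif_pos h
  obtain ⟨f, hf⟩ := SteinbergSL.exists_hom (n := N) hN x
    (fun i j h s t => by rw [hx i j h, hx i j h, hx i j h, el_mul])
    (fun i j k l hij hkl hjk hil s t => by
      rw [hx i j hij, hx k l hkl]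
      have key : ∀ r s : Fin N, r ≠ s → ∀ q, q = p s ∨ q = bar (p s) → p r ≠ q := fun r s hrs q hq e =>
        hp r s hrs (by rcases hq with rfl | rfl <;> rw [e] ; rw [lev_bar])
      refine el_comm _ _ ?_ ?_ ?_ ?_ s t
      · rw [bar_bar]; exact key j k hjk _ (Or.inl rfl)
      · rw [bar_bar]
        intro e
        by_cases hjl : j = l
        · subst hjl; exact bar_ne (p j) e.symm
        · exact key j l hjl _ (Or.inr rfl) e
      · intro e
        by_cases hik : i = k
        · subst hik; exact bar_ne (p i) e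
        · exact key k i (Ne.symm hik) _ (Or.inr rfl) e.symm
      · exact fun e => key i l hil _ (Or.inl rfl) (bar_inj e))
    (fun i j k hij hjk hik s t => by
      rw [hx i j hij, hx j k hjk, hx i k hik]
      exact el_rel (by rw [lev_bar]; exact hp i k hik) (hp i j hij) (by rw [lev_bar]; exact hp j k hjk)
        _ _ _ s t)
  exact ⟨f, fun i j h t => by rw [SLMult.tx_eq h, hf, hx i j h]⟩

end Cfsg.Agent.CurtisTitsD
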